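import Mathlib
import Cfsg.Agent.Lib.helper17.SLP.Defs
import Cfsg.Agent.Lib.helper3.SP4.Defs
import Cfsg.Agent.Lib.Helper22.SU4.Defs
import Cfsg.Agent.Lib.Helper27.STU.Defs
import Cfsg.Agent.Lib.Helper27.STU.Defs3

/-!
# Project SU5 (designer helper19): `SU₅(q)` has a presentation with 6 generators and at most 54 relations
(the base of the ODD case `n = 2m + 1` of S2291, architect helper27; the case `n = 5` itself).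

PORT of helper22's project SU4 (itself a port of helper3's SP4) to the twisted root system `²A₄ = BC₂`: the long-root `SL₂(K)` of SU4 is replaced by the
rank one group `SU₃(q) = SUm F True` of helper27's project STU (`3 × 3` matrices on `e₂, d, e₋₂`), whose root groups are parametrised by the Heisenberg group `Lam F True`.

Frame `e₁ e₂ d e₋₂ e₋₁`.  Simple roots `a = e₁ - e₂` (root group `≅ F`, the `SL₂(F)` given by `φa`), `b = e₂` (root group `≅ Lam F True`, order `q³`, the `SU₃` given by `φb`);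
positive roots `a`, `b`, `c = a + b·2 = e₁ + e₂` (`≅ F`), `d = a + b = e₁` (`≅ Lam F True`); the long roots `2e₂`, `2e₁` are the centres of the root groups of `b`, `d`.
The long-root `SL₂(K)` inside `SU₃` is `P.ιL`; for the pair `(φa, φb.comp P.ιL)` the 13 relations `HypT` of SU4 hold, so ALL results of SU4 (`tor4T wact4T comm4T`) apply to it.
-/

set_option autoImplicit false

namespace Cfsg.Agent.Lib.Helper19.SU5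

open Cfsg.Agent.Lib.helper17.SLP Cfsg.Agent.Lib.helper3.SP4 Cfsg.Agent.Lib.Helper22.SU4
open Cfsg.Agent.Lib.Helper27.STU (Lam XpM XmM XpS XmS SUm XpU XmU)

universe u v

section Data

variable {F : Type u} {K : Type u} [Field F] [Field K] [StarRing F]

/-- the Weyl element of the rank one group attached to `ξ` (`ξ.c ≠ 0`): `e₂ ↦ (star c)⁻¹ e₋₂`, `e₋₂ ↦ c e₂`, `d ↦ -(star c / c) d`. -/
def WU (ξ : Lam F True) : ↥(SUm F True) := XpU ξ * XmU (Lam.mu ξ) * XpU (Lam.nu ξ)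

/-- The rank one data: generators `ζ` of `Fˣ`, `ζ₀ = N(ζ)` of `Kˣ`; the long-root embedding `ιL : SL₂(K) → SU₃` (`M ↦ [[ι M₀₀, 0, κ ι M₀₁], [0, 1, 0], [κ⁻¹ ι M₁₀, 0, ι M₁₁]]`,
`κ = ζ - star ζ`), the torus `HU r = diag(r, star r / r, (star r)⁻¹)` of `SU₃`, and two base points `ξ₁ = (1, c₁)`, `ξ₂ = (ζ, c₂)` of `Lam F True`. -/
structure RO (D : Tw F K) where
  ζ : Fˣ
  ζ₀ : Kˣ
  ιL : Matrix.SpecialLinearGroup (Fin 2) K →* ↥(SUm F True)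
  HU : Fˣ →* ↥(SUm F True)
  ξ₁ : Lam F True
  ξ₂ : Lam F True
  hσ : ∀ x, D.σ x = star x
  hζ : ∀ y : Fˣ, y ∈ Subgroup.zpowers ζ
  hζ₀ : ∀ y : Kˣ, y ∈ Subgroup.zpowers ζ₀
  hn : D.nmu ζ = ζ₀
  ιL_x : ∀ u : K, ιL (xM u) = XpU (Lam.tr ((ζ : F) * D.ι u))
  ιL_w : ιL wM = WU (Lam.tr (ζ : F))
  ιL_h : ∀ r : Kˣ, ιL (hM r) = HU (D.ιu r)
  HU_mat : ∀ r : Fˣ, Cfsg.Agent.Lib.Helper27.STU.SUm.mat (HU r) =
    !![(r : F), 0, 0; 0, star (r : F) / (r : F), 0; 0, 0, (star (r : F))⁻¹]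
  hv₁ : ξ₁.v = 1
  hv₂ : ξ₂.v = (ζ : F)

/-- the skew element `κ = ζ - star ζ` (`x_b(u) = y_b(0, κ ι u)`, `w_b : e₂ ↦ -κ⁻¹ e₋₂`, `e₋₂ ↦ κ e₂`). -/
def RO.kap {D : Tw F K} (P : RO D) : F := (P.ζ : F) - star (P.ζ : F)

end Data

section Roots

variable {F : Type u} {K : Type u} [Field F] [Field K] [StarRing F] {G : Type v} [Group G] {D : Tw F K}

/-- the long-root `SL₂(K)` of the pair: `φb ∘ ιL`. -/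
def phiL (P : RO D) (φb : ↥(SUm F True) →* G) : Matrix.SpecialLinearGroup (Fin 2) K →* G := φb.comp P.ιL

/-- the half-root map of `b = e₂`: `y_b(ξ)`. -/
def yb (φb : ↥(SUm F True) →* G) (ξ : Lam F True) : G := φb (XpU ξ)

/-- the half-root map of `-b`. -/
def ybm (φb : ↥(SUm F True) →* G) (ξ : Lam F True) : G := φb (XmU ξ)

/-- the torus element `h_b(r)`, `r : Fˣ`, of `SU₃`. -/
def hbF (P : RO D) (φb : ↥(SUm F True) →* G) (r : Fˣ) : G := φb (P.HU r)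

/-- the half-root map of `d = e₁`: `y_d(ξ) = w_a⁻¹ y_b(ξ) w_a`. -/
def ydU (φa : Matrix.SpecialLinearGroup (Fin 2) F →* G) (φb : ↥(SUm F True) →* G) (ξ : Lam F True) : G :=
  (rn φa)⁻¹ * yb φb ξ * rn φa

/-- the root map of `c = e₁ + e₂`: `x_c(t) = w_b⁻¹ x_a(t) w_b` (that of SU4 for the pair `(φa, φb ∘ ιL)`). -/
def xcU (P : RO D) (φa : Matrix.SpecialLinearGroup (Fin 2) F →* G) (φb : ↥(SUm F True) →* G) (t : F) : G :=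
  xcT φa (phiL P φb) t

/-- the long root map of `2e₁`: `x_D(u) = w_a⁻¹ x_b(u) w_a` (that of SU4). -/
def xDU (P : RO D) (φa : Matrix.SpecialLinearGroup (Fin 2) F →* G) (φb : ↥(SUm F True) →* G) (u : K) : G :=
  xdT φa (phiL P φb) u

/-- The 22 structural relations between `φa : SL₂(F) →* G` and `φb : SU₃ →* G`.  The first ten are relations of `HypT` (SU4) for the pair `(φa, φb ∘ ιL)`
(its `T1 T2 N4` follow from `U1 U2 U4`); `w_b = rn (phiL P φb)`, `x_b = rx (phiL P φb)`. -/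
structure HypU (P : RO D) (φa : Matrix.SpecialLinearGroup (Fin 2) F →* G) (φb : ↥(SUm F True) →* G) : Prop where
  /-- `h_a⁻¹ x_b(1) h_a = x_b(ζ₀)` -/
  T3 : (rh φa P.ζ)⁻¹ * rx (phiL P φb) 1 * rh φa P.ζ = rx (phiL P φb) (P.ζ₀ : K)
  /-- `w_b h_a w_b⁻¹ = h_a h_b(ζ₀)` -/
  N5 : rn (phiL P φb) * rh φa P.ζ * (rn (phiL P φb))⁻¹ = rh φa P.ζ * rh (phiL P φb) P.ζ₀
  /-- braid relation of length 4 -/
  N6 : rn φa * rn (phiL P φb) * rn φa * rn (phiL P φb) = rn (phiL P φb) * rn φa * rn (phiL P φb) * rn φa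
  /-- the reflection in `e₁ + e₂` inverts `x_a(1)` -/
  W7 : (rn (phiL P φb) * rn φa * (rn (phiL P φb))⁻¹) * rx φa 1 * (rn (phiL P φb) * rn φa * (rn (phiL P φb))⁻¹)⁻¹ =
    (rx φa 1)⁻¹
  /-- the reflection in `2e₁` centralises `x_b(1)` -/
  W8 : Commute (rn φa * rn (phiL P φb) * (rn φa)⁻¹) (rx (phiL P φb) 1)
  /-- `[x_a(1), x_b(1)] = x_c(1) x_D(1)` -/
  C9 : cm (rx φa 1) (rx (phiL P φb) 1) = xcU P φa φb 1 * xDU P φa φb 1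
  /-- `[x_a(1), x_c(1)] = x_D(1)²` -/
  C10 : cm (rx φa 1) (xcU P φa φb 1) = xDU P φa φb 1 ^ 2
  /-- `[x_a(1), x_c(ζ)] = x_D(tr ζ)` -/
  C10b : cm (rx φa 1) (xcU P φa φb (P.ζ : F)) = xDU P φa φb (D.tr (P.ζ : F))
  /-- `[x_a(1), x_D(1)] = 1` -/
  C11 : Commute (rx φa 1) (xDU P φa φb 1)
  /-- `[x_b(1), x_D(1)] = 1` -/
  C12 : Commute (rx (phiL P φb) 1) (xDU P φa φb 1)
  /-- `[h_a(ζ), h_b(ζ)] = 1` (the full torus of `SU₃`) -/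
  U1 : Commute (rh φa P.ζ) (hbF P φb P.ζ)
  /-- `h_b(ζ) x_a(1) h_b(ζ)⁻¹ = x_a(ζ⁻¹)` -/
  U2 : hbF P φb P.ζ * rx φa 1 * (hbF P φb P.ζ)⁻¹ = rx φa ((P.ζ⁻¹ : Fˣ) : F)
  /-- `h_a(ζ) y_b(ξ₁) h_a(ζ)⁻¹ = y_b(ζ⁻¹ · ξ₁)` -/
  U3 : rh φa P.ζ * yb φb P.ξ₁ * (rh φa P.ζ)⁻¹ = yb φb (Lam.act ((P.ζ⁻¹ : Fˣ) : F) P.ξ₁)
  /-- the same for `ξ₂` -/
  U3b : rh φa P.ζ * yb φb P.ξ₂ * (rh φa P.ζ)⁻¹ = yb φb (Lam.act ((P.ζ⁻¹ : Fˣ) : F) P.ξ₂)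
  /-- `w_a h_b(ζ) w_a⁻¹ = h_a(ζ) h_b(ζ)` -/
  U4 : rn φa * hbF P φb P.ζ * (rn φa)⁻¹ = rh φa P.ζ * hbF P φb P.ζ
  /-- `w_b` centralises `y_d(ξ₁)` -/
  U5 : Commute (rn (phiL P φb)) (ydU φa φb P.ξ₁)
  /-- `[y_b(ξ₁), x_c(1)] = 1` -/
  U6 : Commute (yb φb P.ξ₁) (xcU P φa φb 1)
  /-- `[y_b(ξ₂), x_c(1)] = 1` -/
  U6b : Commute (yb φb P.ξ₂) (xcU P φa φb 1)
  /-- `[x_a(1), y_b(ξ₁)] = x_c(-κ⁻¹ star c₁) y_d(-ξ₁)` -/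
  U7 : cm (rx φa 1) (yb φb P.ξ₁) = xcU P φa φb (-(P.kap)⁻¹ * star P.ξ₁.c) * ydU φa φb (Lam.act (-1) P.ξ₁)
  /-- the same for `ξ₂` -/
  U7b : cm (rx φa 1) (yb φb P.ξ₂) = xcU P φa φb (-(P.kap)⁻¹ * star P.ξ₂.c) * ydU φa φb (Lam.act (-1) P.ξ₂)
  /-- `[y_b(ξ₁), y_d(ξ₁)] = x_c(-κ⁻¹ star v₁ v₁)` -/
  U8 : cm (yb φb P.ξ₁) (ydU φa φb P.ξ₁) = xcU P φa φb (-(P.kap)⁻¹ * (star P.ξ₁.v * P.ξ₁.v))
  /-- `[y_b(ξ₂), y_d(ξ₁)] = x_c(-κ⁻¹ star v₂ v₁)` -/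
  U8b : cm (yb φb P.ξ₂) (ydU φa φb P.ξ₁) = xcU P φa φb (-(P.kap)⁻¹ * (star P.ξ₂.v * P.ξ₁.v))

/-- The torus `⟨h_a(s), h_b(r) | s r : Fˣ⟩`: commutation, the Weyl elements on it, and its action on the root maps `x_a`, `y_b`, `x_c`, `y_d`
(`h_a(s) h_b(r)` acts through `s² r⁻¹`, `s⁻¹ r² / star r`, `(s / star s) star r`, `s r / star r`). -/
structure TorU (P : RO D) (φa : Matrix.SpecialLinearGroup (Fin 2) F →* G) (φb : ↥(SUm F True) →* G) : Prop where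
  comm : ∀ s r : Fˣ, Commute (rh φa s) (hbF P φb r)
  wa_hb : ∀ r : Fˣ, rn φa * hbF P φb r * (rn φa)⁻¹ = rh φa r * hbF P φb r
  wa_hb' : ∀ r : Fˣ, (rn φa)⁻¹ * hbF P φb r * rn φa = rh φa r * hbF P φb r
  wb_ha : ∀ s : Fˣ, rn (phiL P φb) * rh φa s * (rn (phiL P φb))⁻¹ = rh φa s * hbF P φb (D.ιu (D.nmu s))
  wb_ha' : ∀ s : Fˣ, (rn (phiL P φb))⁻¹ * rh φa s * rn (phiL P φb) = rh φa s * hbF P φb (D.ιu (D.nmu s))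
  wb_hb : ∀ r : Fˣ, rn (phiL P φb) * hbF P φb r * (rn (phiL P φb))⁻¹ = hbF P φb (D.σu r)⁻¹
  wb_hb' : ∀ r : Fˣ, (rn (phiL P φb))⁻¹ * hbF P φb r * rn (phiL P φb) = hbF P φb (D.σu r)⁻¹
  ab : ∀ r : Fˣ, Act (hbF P φb r) (rx φa) ((r⁻¹ : Fˣ) : F)
  ac : ∀ s : Fˣ, Act (rh φa s) (xcU P φa φb) ((s : F) * star ((s⁻¹ : Fˣ) : F))
  bc : ∀ r : Fˣ, Act (hbF P φb r) (xcU P φa φb) (star (r : F))
  a_yb : ∀ (s : Fˣ) (ξ : Lam F True), rh φa s * yb φb ξ * (rh φa s)⁻¹ = yb φb (Lam.act ((s⁻¹ : Fˣ) : F) ξ)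
  b_yb : ∀ (r : Fˣ) (ξ : Lam F True), hbF P φb r * yb φb ξ * (hbF P φb r)⁻¹ = yb φb (Lam.act ((r : F) ^ 2 / star (r : F)) ξ)
  a_yd : ∀ (s : Fˣ) (ξ : Lam F True), rh φa s * ydU φa φb ξ * (rh φa s)⁻¹ = ydU φa φb (Lam.act (s : F) ξ)
  b_yd : ∀ (r : Fˣ) (ξ : Lam F True), hbF P φb r * ydU φa φb ξ * (hbF P φb r)⁻¹ = ydU φa φb (Lam.act ((r : F) / star (r : F)) ξ)

/-- The action of `w_a`, `w_b` on the positive root maps other than their own. -/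
structure WactU (P : RO D) (φa : Matrix.SpecialLinearGroup (Fin 2) F →* G) (φb : ↥(SUm F True) →* G) : Prop where
  a_b : ∀ ξ, rn φa * yb φb ξ * (rn φa)⁻¹ = ydU φa φb (Lam.act (-1) ξ)
  a_d : ∀ ξ, rn φa * ydU φa φb ξ * (rn φa)⁻¹ = yb φb ξ
  a_c : ∀ t, rn φa * xcU P φa φb t * (rn φa)⁻¹ = xcU P φa φb (-star t)
  b_a : ∀ t, rn (phiL P φb) * rx φa t * (rn (phiL P φb))⁻¹ = xcU P φa φb (-t)
  b_c : ∀ t, rn (phiL P φb) * xcU P φa φb t * (rn (phiL P φb))⁻¹ = rx φa t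
  b_d : ∀ ξ, rn (phiL P φb) * ydU φa φb ξ * (rn (phiL P φb))⁻¹ = ydU φa φb ξ

/-- The commutator relations between the four positive root maps, for all parameters. -/
structure CommU (P : RO D) (φa : Matrix.SpecialLinearGroup (Fin 2) F →* G) (φb : ↥(SUm F True) →* G) : Prop where
  ad : ∀ t ξ, Commute (rx φa t) (ydU φa φb ξ)
  cd : ∀ t ξ, Commute (xcU P φa φb t) (ydU φa φb ξ)
  bc : ∀ ξ t, Commute (yb φb ξ) (xcU P φa φb t)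
  bd : ∀ ξ η, cm (yb φb ξ) (ydU φa φb η) = xcU P φa φb (-(P.kap)⁻¹ * (star ξ.v * η.v))
  ac : ∀ t s, cm (rx φa t) (xcU P φa φb s) = ydU φa φb (Lam.tr ((P.ζ : F) * D.ι (D.tr (t * star s))))
  ab : ∀ t ξ, cm (rx φa t) (yb φb ξ) = xcU P φa φb (-(P.kap)⁻¹ * (t * star ξ.c)) * ydU φa φb (Lam.act (-t) ξ)

/-- the torus `T = ⟨h_a(s), h_b(r)⟩`, `s r : Fˣ`. -/
def TU (P : RO D) (φa : Matrix.SpecialLinearGroup (Fin 2) F →* G) (φb : ↥(SUm F True) →* G) : Subgroup G :=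
  Subgroup.closure (Set.range (rh φa) ∪ Set.range (hbF P φb))

/-- the root group of a map from `Lam F True`. -/
def LG (Y : Lam F True → G) : Subgroup G := Subgroup.closure (Set.range Y)

end Roots

section BN

variable {G : Type u} [Group G]

/-- Subgroup-level root datum of type `BC₂` (only what the Bruhat count uses): `RD4` of SP4 with two sizes and with `[Xb, Xd] ⊆ Xc` instead of `[Xb, Xd] = 1`.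
`Xa Xb` simple, `s_a : b ↔ d, c ↦ c`; `s_b : a ↔ c, d ↦ d`. -/
structure RD5 (q₁ q₂ : ℕ) (T Xa Xb Xc Xd : Subgroup G) (n1 n2 : G) : Prop where
  finT : Finite T
  fina : Finite Xa ∧ Nat.card Xa ≤ q₁
  finb : Finite Xb ∧ Nat.card Xb ≤ q₂
  finc : Finite Xc ∧ Nat.card Xc ≤ q₁
  find : Finite Xd ∧ Nat.card Xd ≤ q₂
  cad : ∀ a ∈ Xa, ∀ d ∈ Xd, Commute a d
  cbd : ∀ b ∈ Xb, ∀ d ∈ Xd, b * d * b⁻¹ * d⁻¹ ∈ Xc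
  ccd : ∀ c ∈ Xc, ∀ d ∈ Xd, Commute c d
  cbc : ∀ b ∈ Xb, ∀ c ∈ Xc, Commute b c
  cac : ∀ a ∈ Xa, ∀ c ∈ Xc, a * c * a⁻¹ * c⁻¹ ∈ Xd
  cab : ∀ a ∈ Xa, ∀ b ∈ Xb, ∃ c ∈ Xc, ∃ d ∈ Xd, a * b * a⁻¹ * b⁻¹ = c * d
  ta : ∀ τ ∈ T, ∀ g ∈ Xa, τ * g * τ⁻¹ ∈ Xa
  tb : ∀ τ ∈ T, ∀ g ∈ Xb, τ * g * τ⁻¹ ∈ Xb
  tc : ∀ τ ∈ T, ∀ g ∈ Xc, τ * g * τ⁻¹ ∈ Xc
  td : ∀ τ ∈ T, ∀ g ∈ Xd, τ * g * τ⁻¹ ∈ Xd
  n1T : ∀ τ ∈ T, n1 * τ * n1⁻¹ ∈ T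
  n1b : ∀ g ∈ Xb, n1 * g * n1⁻¹ ∈ Xd
  n1d : ∀ g ∈ Xd, n1 * g * n1⁻¹ ∈ Xb
  n1c : ∀ g ∈ Xc, n1 * g * n1⁻¹ ∈ Xc
  n1b' : ∀ g ∈ Xb, n1⁻¹ * g * n1 ∈ Xd
  n1d' : ∀ g ∈ Xd, n1⁻¹ * g * n1 ∈ Xb
  n1c' : ∀ g ∈ Xc, n1⁻¹ * g * n1 ∈ Xc
  n1sq : n1 ^ 2 ∈ T
  n2T : ∀ τ ∈ T, n2 * τ * n2⁻¹ ∈ T
  n2a : ∀ g ∈ Xa, n2 * g * n2⁻¹ ∈ Xc
  n2c : ∀ g ∈ Xc, n2 * g * n2⁻¹ ∈ Xa
  n2d : ∀ g ∈ Xd, n2 * g * n2⁻¹ ∈ Xd
  n2a' : ∀ g ∈ Xa, n2⁻¹ * g * n2 ∈ Xc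
  n2c' : ∀ g ∈ Xc, n2⁻¹ * g * n2 ∈ Xa
  n2d' : ∀ g ∈ Xd, n2⁻¹ * g * n2 ∈ Xd
  n2sq : n2 ^ 2 ∈ T
  r1 : ∀ g ∈ Xa, g = 1 ∨ ∃ a ∈ Xa, ∃ τ ∈ T, ∃ a' ∈ Xa, n1 * g * n1⁻¹ = a * τ * n1 * a'
  r2 : ∀ g ∈ Xb, g = 1 ∨ ∃ b ∈ Xb, ∃ τ ∈ T, ∃ b' ∈ Xb, n2 * g * n2⁻¹ = b * τ * n2 * b'
  braid : ∃ τ ∈ T, n2 * n1 * n2 * n1 = τ * (n1 * n2 * n1 * n2)
  gen : Subgroup.closure ((T : Set G) ∪ (Xa : Set G) ∪ (Xb : Set G) ∪ {n1, n2}) = ⊤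

end BN

section Pres

variable {F : Type u} {K : Type u} [Field F] [Field K] [StarRing F] {D : Tw F K}

/-- the free product of the two rank one groups. -/
abbrev FP (F : Type u) [Field F] [StarRing F] : Type u :=
  Monoid.Coprod (Matrix.SpecialLinearGroup (Fin 2) F) ↥(SUm F True)

/-- `φa` and `φb` of the free product. -/
def fpA : Matrix.SpecialLinearGroup (Fin 2) F →* FP F := Monoid.Coprod.inl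

def fpB : ↥(SUm F True) →* FP F := Monoid.Coprod.inr

/-- the relator `g = g'`. -/
def eqr {G : Type*} [Group G] (g g' : G) : G := g * g'⁻¹

/-- The 22 relators of `HypU` in the free product `SL₂(F) * SU₃`. -/
def relsU (P : RO D) : List (FP F) :=
  [eqr ((rh fpA P.ζ)⁻¹ * rx (phiL P fpB) 1 * rh fpA P.ζ) (rx (phiL P fpB) (P.ζ₀ : K)),
    eqr (rn (phiL P fpB) * rh fpA P.ζ * (rn (phiL P fpB))⁻¹) (rh fpA P.ζ * rh (phiL P fpB) P.ζ₀),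
    eqr (rn fpA * rn (phiL P fpB) * rn fpA * rn (phiL P fpB)) (rn (phiL P fpB) * rn fpA * rn (phiL P fpB) * rn fpA),
    eqr ((rn (phiL P fpB) * rn fpA * (rn (phiL P fpB))⁻¹) * rx fpA 1 * (rn (phiL P fpB) * rn fpA * (rn (phiL P fpB))⁻¹)⁻¹)
      (rx fpA 1)⁻¹,
    cm (rn fpA * rn (phiL P fpB) * (rn fpA)⁻¹) (rx (phiL P fpB) 1),
    eqr (cm (rx fpA 1) (rx (phiL P fpB) 1)) (xcU P fpA fpB 1 * xDU P fpA fpB 1),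
    eqr (cm (rx fpA 1) (xcU P fpA fpB 1)) (xDU P fpA fpB 1 ^ 2),
    eqr (cm (rx fpA 1) (xcU P fpA fpB (P.ζ : F))) (xDU P fpA fpB (D.tr (P.ζ : F))),
    cm (rx fpA 1) (xDU P fpA fpB 1),
    cm (rx (phiL P fpB) 1) (xDU P fpA fpB 1),
    cm (rh fpA P.ζ) (hbF P fpB P.ζ),
    eqr (hbF P fpB P.ζ * rx fpA 1 * (hbF P fpB P.ζ)⁻¹) (rx fpA ((P.ζ⁻¹ : Fˣ) : F)),
    eqr (rh fpA P.ζ * yb fpB P.ξ₁ * (rh fpA P.ζ)⁻¹) (yb fpB (Lam.act ((P.ζ⁻¹ : Fˣ) : F) P.ξ₁)),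
    eqr (rh fpA P.ζ * yb fpB P.ξ₂ * (rh fpA P.ζ)⁻¹) (yb fpB (Lam.act ((P.ζ⁻¹ : Fˣ) : F) P.ξ₂)),
    eqr (rn fpA * hbF P fpB P.ζ * (rn fpA)⁻¹) (rh fpA P.ζ * hbF P fpB P.ζ),
    cm (rn (phiL P fpB)) (ydU fpA fpB P.ξ₁),
    cm (yb fpB P.ξ₁) (xcU P fpA fpB 1),
    cm (yb fpB P.ξ₂) (xcU P fpA fpB 1),
    eqr (cm (rx fpA 1) (yb fpB P.ξ₁)) (xcU P fpA fpB (-(P.kap)⁻¹ * star P.ξ₁.c) * ydU fpA fpB (Lam.act (-1) P.ξ₁)),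
    eqr (cm (rx fpA 1) (yb fpB P.ξ₂)) (xcU P fpA fpB (-(P.kap)⁻¹ * star P.ξ₂.c) * ydU fpA fpB (Lam.act (-1) P.ξ₂)),
    eqr (cm (yb fpB P.ξ₁) (ydU fpA fpB P.ξ₁)) (xcU P fpA fpB (-(P.kap)⁻¹ * (star P.ξ₁.v * P.ξ₁.v))),
    eqr (cm (yb fpB P.ξ₂) (ydU fpA fpB P.ξ₁)) (xcU P fpA fpB (-(P.kap)⁻¹ * (star P.ξ₂.v * P.ξ₁.v)))]

/-- the universal group of `HypU`. -/
abbrev UG (P : RO D) : Type u := FP F ⧸ Subgroup.normalClosure {g | g ∈ relsU P}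

end Pres

end Cfsg.Agent.Lib.Helper19.SU5
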