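import Mathlib
import Cfsg.Agent.Lib.Helper19.SU5.Defs
import Cfsg.Agent.Lib.helper3.SU5.Defs
import Cfsg.Agent.Lib.Helper27.STU.Defs2

/-!
# Project SU5 (designer helper19): definitions for part 2 of the skeleton (bridge to helper3's endgame, the model side, the presentation).

* `datU P φa φb` : the data `Dat F G` of helper3's endgame (`Cfsg.Agent.Lib.helper3.SU5`) attached to the pair `(φa, φb)`: `ξ₀ = Lam.tr ζ = (0, κ)`.
* `MatchU S ψa ψb` : the two rank one homomorphisms hit the simple root maps of a Steinberg system `S : SysU F True (Fin 2) G₀`.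
* `MonV R g π d d0` : `g` acts monomially on the frame of a representation `R : S.Rep V`.
-/

set_option autoImplicit false

namespace Cfsg.Agent.Lib.Helper19.SU5

open Cfsg.Agent.Lib.helper17.SLP Cfsg.Agent.Lib.helper3.SP4 Cfsg.Agent.Lib.Helper22.SU4
open Cfsg.Agent.Lib.Helper27.STU (Lam XpM XmM XpS XmS SUm XpU XmU SysU)
open Cfsg.Agent.Lib.helper3.STC (ng sws)

universe u v w

section Bridge

variable {F : Type u} {K : Type u} [Field F] [Field K] [StarRing F] {G : Type v} [Group G] {D : Tw F K}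

/-- the data of helper3's endgame: `φa`, `φb` and `ξ₀ = Lam.tr ζ = (0, κ)` (so `nA = w_a`, `nB = w_b`). -/
def datU (P : RO D) (φa : Matrix.SpecialLinearGroup (Fin 2) F →* G) (φb : ↥(SUm F True) →* G) :
    Cfsg.Agent.Lib.helper3.SU5.Dat F G :=
  ⟨φa, φb, Lam.tr (P.ζ : F)⟩

end Bridge

section Model

variable {F : Type u} [Field F] [StarRing F] {G₀ : Type v} [Group G₀]

/-- the rank one homomorphisms `ψa : SL₂(F) →* G₀`, `ψb : SU₃ →* G₀` hit the simple root maps of the Steinberg system `S`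
(signed indices `1 = inl 0`, `2 = inl 1`, `-1 = inr 0`, `-2 = inr 1`): `x_a(t) = xs 1 2 t`, `x_{-a}(t) = xs 2 1 t`, `y_b(ξ) = xl 2 ξ`, `y_{-b}(ξ) = xl (-2) ξ`. -/
structure MatchU (S : SysU F True (Fin 2) G₀) (ψa : Matrix.SpecialLinearGroup (Fin 2) F →* G₀)
    (ψb : ↥(SUm F True) →* G₀) : Prop where
  xa : ∀ t, ψa (Cfsg.Agent.Lib.helper15.St2.xm t) = S.xs (Sum.inl 0) (Sum.inl 1) t
  ya : ∀ t, ψa (Cfsg.Agent.Lib.helper15.St2.ym t) = S.xs (Sum.inl 1) (Sum.inl 0) t
  xb : ∀ ξ, ψb (XpU ξ) = S.xl (Sum.inl 1) ξ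
  yb : ∀ ξ, ψb (XmU ξ) = S.xl (Sum.inr 1) ξ

end Model

section Frame

variable {F : Type u} [Field F] [StarRing F] {od : Prop} {ι : Type v} {G₀ : Type w} [Group G₀] {S : SysU F od ι G₀}
  {V : Type*} [AddCommGroup V] [Module F V]

/-- `g` acts monomially on the frame of the representation `R`: `g • fr a = d a • fr (π a)`, `g • dv = d0 • dv`. -/
def MonV (R : S.Rep V) (g : G₀) (π : Equiv.Perm (ι ⊕ ι)) (d : ι ⊕ ι → F) (d0 : F) : Prop :=
  (∀ a, R.φ g (R.fr a) = d a • R.fr (π a)) ∧ R.φ g R.dv = d0 • R.dv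

/-- the frame spans: a linear automorphism is determined by its values on the frame. -/
def SpanV (R : S.Rep V) : Prop :=
  ∀ f f' : V ≃ₗ[F] V, (∀ a, f (R.fr a) = f' (R.fr a)) → f R.dv = f' R.dv → f = f'

end Frame

end Cfsg.Agent.Lib.Helper19.SU5
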